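import Groth.Agent.Lib.Helper3.AlgEq.Graph
import Groth.Agent.Lib.Helper9.Misc.GOP1

/-! # Points on a connected union of smooth projective curves are algebraically equivalent -/

set_option autoImplicit false
universe u
open AlgebraicGeometry CategoryTheory CategoryTheory.Limits

namespace Groth.Agent.H3.AlgEq

variable {k : Type u} [Field k]

theorem isProper_of_isProjectiveOver {C : Scheme.{u}} (q : C ⟶ Spec (CommRingCat.of k))
    (hp : Neron.IsProjectiveOver k (Over.mk q)) :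
    IsProper q := by
  obtain ⟨n, i, hi', hiq⟩ := hp
  haveI := hi'
  haveI := H5.AG.isProper_toBase n (Spec (CommRingCat.of k))
  have h : q = i ≫ CohB1.ProjSpaceOver.toBase n (Spec (CommRingCat.of k)) := hiq.symm
  rw [h]
  infer_instance

/-- a nonempty closed subset of a quasi-compact finite type scheme over an algebraically closed
field contains a rational point. -/
theorem exists_point_of_closed_nonempty [IsAlgClosed k] {C : Scheme.{u}}
    (q : C ⟶ Spec (CommRingCat.of k)) [LocallyOfFiniteType q] [QuasiCompact q]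
    (S : Set C) (hS : IsClosed S) (hne : S.Nonempty) :
    ∃ t : Spec (CommRingCat.of k) ⟶ C, t ≫ q = 𝟙 _ ∧ t (IsLocalRing.closedPoint k) ∈ S := by
  haveI : CompactSpace C := QuasiCompact.compactSpace_of_compactSpace q
  obtain ⟨c, hcS, hc⟩ := hS.exists_closed_singleton hne
  obtain ⟨t, ht1, ht2⟩ := H9.GOP.exists_point_of_isClosed k k q c hc
  refine ⟨t, ?_, ht2 ▸ hcS⟩
  rw [ht1]
  show Spec.map (CommRingCat.ofHom (RingHom.id k)) = _
  rw [CommRingCat.ofHom_id, Spec.map_id]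

theorem isAlgEquiv_of_connected [IsAlgClosed k] {X : Scheme.{u}} [DecidableEq ↥X]
    (p : X ⟶ Spec (CommRingCat.of k)) (n : ℕ)
    (C : Fin n → Scheme.{u}) (q : (i : Fin n) → (C i ⟶ Spec (CommRingCat.of k)))
    (ι : (i : Fin n) → (C i ⟶ X)) (hι : ∀ i, IsClosedImmersion (ι i)) (hq : ∀ i, ι i ≫ p = q i)
    (hs : ∀ i, Smooth (q i)) (hpr : ∀ i, Neron.IsProjectiveOver k (Over.mk (q i)))
    (hint : ∀ i, IsIntegral (C i)) (hd : ∀ i, topologicalKrullDim ↥(C i) = 1)
    (hconn : _root_.IsConnected (⋃ i, Set.range ⇑(ι i)))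
    (P Q : Spec (CommRingCat.of k) ⟶ X) (hP : P ≫ p = 𝟙 _) (hQ : Q ≫ p = 𝟙 _)
    (hPC : P (IsLocalRing.closedPoint k) ∈ ⋃ i, Set.range ⇑(ι i))
    (hQC : Q (IsLocalRing.closedPoint k) ∈ ⋃ i, Set.range ⇑(ι i)) :
    AlgEqCyc.IsAlgEquiv p
      (Function.locallyFinsuppWithin.single (P (IsLocalRing.closedPoint k)) (1 : ℤ))
      (Function.locallyFinsuppWithin.single (Q (IsLocalRing.closedPoint k)) (1 : ℤ)) := by
  -- two rational points on the same curve
  have hsame : ∀ (i : Fin n) (R S : Spec (CommRingCat.of k) ⟶ X), R ≫ p = 𝟙 _ → S ≫ p = 𝟙 _ →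
      R (IsLocalRing.closedPoint k) ∈ Set.range ⇑(ι i) →
      S (IsLocalRing.closedPoint k) ∈ Set.range ⇑(ι i) →
      (Function.locallyFinsuppWithin.single (R (IsLocalRing.closedPoint k)) (1 : ℤ) -
        Function.locallyFinsuppWithin.single (S (IsLocalRing.closedPoint k)) (1 : ℤ) :
          AlgebraicCycle X ℤ) ∈ AlgEqCyc.algTriv p := by
    intro i R S hR' hS' hR hS
    haveI := hι i
    obtain ⟨t₁, ht₁⟩ := exists_lift_point (ι i) R hR
    obtain ⟨t₂, ht₂⟩ := exists_lift_point (ι i) S hS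
    have h₁ : t₁ ≫ q i = 𝟙 _ := by rw [← hq i, ← Category.assoc, ht₁, hR']
    have h₂ : t₂ ≫ q i = 𝟙 _ := by rw [← hq i, ← Category.assoc, ht₂, hS']
    have key := isElemAlgTriv_graph p (q i) (ι i) (hq i) (hs i) (hpr i) (hint i) (hd i) t₁ t₂ h₁ h₂
    have e1 : ι i (t₁ (IsLocalRing.closedPoint k)) = R (IsLocalRing.closedPoint k) :=
      congrArg (fun f : Spec (CommRingCat.of k) ⟶ X => f (IsLocalRing.closedPoint k)) ht₁
    have e2 : ι i (t₂ (IsLocalRing.closedPoint k)) = S (IsLocalRing.closedPoint k) :=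
      congrArg (fun f : Spec (CommRingCat.of k) ⟶ X => f (IsLocalRing.closedPoint k)) ht₂
    rw [e1, e2] at key
    exact AddSubgroup.subset_closure key
  -- goodness
  obtain ⟨good, hgood⟩ : ∃ good : Fin n → Prop, ∀ i, good i ↔
      ∀ R : Spec (CommRingCat.of k) ⟶ X, R ≫ p = 𝟙 _ →
        R (IsLocalRing.closedPoint k) ∈ Set.range ⇑(ι i) →
        (Function.locallyFinsuppWithin.single (P (IsLocalRing.closedPoint k)) (1 : ℤ) -
          Function.locallyFinsuppWithin.single (R (IsLocalRing.closedPoint k)) (1 : ℤ) :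
            AlgebraicCycle X ℤ) ∈ AlgEqCyc.algTriv p := ⟨_, fun i => Iff.rfl⟩
  have hstep : ∀ i j, good i → (Set.range ⇑(ι i) ∩ Set.range ⇑(ι j)).Nonempty → good j := by
    intro i j hi hne
    rw [hgood] at hi ⊢
    intro R hR' hR
    haveI := hι j
    haveI := hs i
    haveI : IsProper (q i) := isProper_of_isProjectiveOver (q i) (hpr i)
    have hcl : IsClosed ((ι i) ⁻¹' (Set.range ⇑(ι j))) :=
      ((ι j).isClosedEmbedding.isClosed_range).preimage (ι i).continuous
    have hne' : ((ι i) ⁻¹' (Set.range ⇑(ι j))).Nonempty := by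
      obtain ⟨x, ⟨c, hc⟩, hx2⟩ := hne
      exact ⟨c, by rw [Set.mem_preimage, hc]; exact hx2⟩
    obtain ⟨t, ht1, ht2⟩ := exists_point_of_closed_nonempty (q i) _ hcl hne'
    have hS' : (t ≫ ι i) ≫ p = 𝟙 _ := by rw [Category.assoc, hq i, ht1]
    have h1 := hi (t ≫ ι i) hS' ⟨t (IsLocalRing.closedPoint k), rfl⟩
    have h2 := hsame j (t ≫ ι i) R hS' hR' ht2 hR
    have h3 := (AlgEqCyc.algTriv p).add_mem h1 h2
    rwa [sub_add_sub_cancel] at h3
  obtain ⟨a, ha⟩ := Set.mem_iUnion.1 hPC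
  have hga : good a := by
    rw [hgood]
    intro R hR' hR
    exact hsame a P R hP hR' ha hR
  have hall : ∀ j, good j := by
    by_contra hcon
    push Not at hcon
    obtain ⟨j, hj⟩ := hcon
    have hc1 : IsClosed (⋃ i ∈ {i : Fin n | good i}, Set.range ⇑(ι i)) :=
      Set.Finite.isClosed_biUnion (Set.toFinite _)
        (fun i _ => by haveI := hι i; exact (ι i).isClosedEmbedding.isClosed_range)
    have hc2 : IsClosed (⋃ i ∈ {i : Fin n | ¬ good i}, Set.range ⇑(ι i)) :=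
      Set.Finite.isClosed_biUnion (Set.toFinite _)
        (fun i _ => by haveI := hι i; exact (ι i).isClosedEmbedding.isClosed_range)
    have hsub : (⋃ i, Set.range ⇑(ι i)) ⊆ (⋃ i ∈ {i : Fin n | good i}, Set.range ⇑(ι i)) ∪
        (⋃ i ∈ {i : Fin n | ¬ good i}, Set.range ⇑(ι i)) := by
      intro x hx
      obtain ⟨i, hi⟩ := Set.mem_iUnion.1 hx
      by_cases hgi : good i
      · exact Or.inl (Set.mem_biUnion (show i ∈ {i : Fin n | good i} from hgi) hi)
      · exact Or.inr (Set.mem_biUnion (show i ∈ {i : Fin n | ¬ good i} from hgi) hi)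
    have hne1 : ((⋃ i, Set.range ⇑(ι i)) ∩
        (⋃ i ∈ {i : Fin n | good i}, Set.range ⇑(ι i))).Nonempty :=
      ⟨P (IsLocalRing.closedPoint k), hPC,
        Set.mem_biUnion (show a ∈ {i : Fin n | good i} from hga) ha⟩
    have hne2 : ((⋃ i, Set.range ⇑(ι i)) ∩
        (⋃ i ∈ {i : Fin n | ¬ good i}, Set.range ⇑(ι i))).Nonempty := by
      haveI := hint j
      obtain ⟨c⟩ : Nonempty (C j) := inferInstance
      exact ⟨ι j c, Set.mem_iUnion.2 ⟨j, c, rfl⟩,
        Set.mem_biUnion (show j ∈ {i : Fin n | ¬ good i} from hj) ⟨c, rfl⟩⟩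
    obtain ⟨x, -, hx1, hx2⟩ :=
      isPreconnected_closed_iff.1 hconn.isPreconnected _ _ hc1 hc2 hsub hne1 hne2
    obtain ⟨i, hi, hxi⟩ := Set.mem_iUnion₂.1 hx1
    obtain ⟨j', hj', hxj⟩ := Set.mem_iUnion₂.1 hx2
    exact hj' (hstep i j' hi ⟨x, hxi, hxj⟩)
  obtain ⟨b, hb⟩ := Set.mem_iUnion.1 hQC
  have hgb := hall b
  rw [hgood] at hgb
  exact hgb Q hQ hb

end Groth.Agent.H3.AlgEq
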