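import Mathlib
import Groth.Prelude.Def_AlgEqCyc
import Groth.Agent.Lib.Helper5.AG.ProjProper

/-! # The diagonal family on a curve: `[P₁] - [P₂]` is elementary algebraically trivial -/

set_option autoImplicit false
universe u
open AlgebraicGeometry CategoryTheory CategoryTheory.Limits

namespace Groth.Agent.H3.AlgEq

section Alg

/-- the multiplicity module `(R/𝔭)/𝔪_S (R/𝔭)` is simple as soon as `𝔪_R ⊆ 𝔭 + g(𝔪_S) R`. -/
theorem length_quot_eq_one {R S : Type u} [CommRing R] [IsLocalRing R] [CommRing S] [IsLocalRing S]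
    (g : S →+* R) [IsLocalHom g] (𝔭 : Ideal R) (h𝔭 : 𝔭 ≠ ⊤)
    (hmax : ∀ r ∈ IsLocalRing.maximalIdeal R, ∃ b ∈ IsLocalRing.maximalIdeal S, r - g b ∈ 𝔭) :
    Module.length R ((R ⧸ 𝔭) ⧸ (IsLocalRing.maximalIdeal S).map ((Ideal.Quotient.mk 𝔭).comp g)) = 1 := by
  generalize hI : (IsLocalRing.maximalIdeal S).map ((Ideal.Quotient.mk 𝔭).comp g) = I
  -- (a)
  have ha : ∀ r ∈ IsLocalRing.maximalIdeal R, Ideal.Quotient.mk 𝔭 r ∈ I := by
    intro r hr
    obtain ⟨b, hb, hrb⟩ := hmax r hr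
    have h1 : Ideal.Quotient.mk 𝔭 r = Ideal.Quotient.mk 𝔭 (g b) := by
      rw [Ideal.Quotient.eq]; exact hrb
    rw [h1, ← hI]
    exact Ideal.mem_map_of_mem ((Ideal.Quotient.mk 𝔭).comp g) hb
  -- (b)
  have h𝔭le : 𝔭 ≤ IsLocalRing.maximalIdeal R := IsLocalRing.le_maximalIdeal h𝔭
  have hb : I ≠ ⊤ := by
    intro htop
    have hχ : ∀ a ∈ 𝔭, IsLocalRing.residue R a = 0 := fun a ha' =>
      (IsLocalRing.residue_eq_zero_iff a).2 (h𝔭le ha')
    have h1 : I.map (Ideal.Quotient.lift 𝔭 (IsLocalRing.residue R) hχ) ≤ ⊥ := by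
      rw [← hI, Ideal.map_map, Ideal.map_le_iff_le_comap]
      intro b hb'
      rw [Ideal.mem_comap, Ideal.mem_bot]
      show Ideal.Quotient.lift 𝔭 (IsLocalRing.residue R) hχ (Ideal.Quotient.mk 𝔭 (g b)) = 0
      rw [Ideal.Quotient.lift_mk, IsLocalRing.residue_eq_zero_iff]
      rw [IsLocalRing.mem_maximalIdeal, mem_nonunits_iff] at hb' ⊢
      exact fun hu => hb' ((isUnit_map_iff g b).1 hu)
    have h2 : (1 : IsLocalRing.ResidueField R) ∈
        I.map (Ideal.Quotient.lift 𝔭 (IsLocalRing.residue R) hχ) := by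
      have : (1 : R ⧸ 𝔭) ∈ I := by rw [htop]; trivial
      have := Ideal.mem_map_of_mem (Ideal.Quotient.lift 𝔭 (IsLocalRing.residue R) hχ) this
      rwa [map_one] at this
    exact one_ne_zero ((Ideal.mem_bot).1 (h1 h2))
  have key : ∀ r : R, r • (1 : (R ⧸ 𝔭) ⧸ I) = Ideal.Quotient.mk I (Ideal.Quotient.mk 𝔭 r) := by
    intro r
    have h1 : (1 : (R ⧸ 𝔭) ⧸ I) = Ideal.Quotient.mk I (Ideal.Quotient.mk 𝔭 (1 : R)) := by simp
    rw [h1]
    show Ideal.Quotient.mk I (Ideal.Quotient.mk 𝔭 (r • (1 : R))) = _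
    rw [smul_eq_mul, mul_one]
  have hsurj1 : ∀ y : (R ⧸ 𝔭) ⧸ I, ∃ r : R, r • (1 : (R ⧸ 𝔭) ⧸ I) = y := by
    intro y
    obtain ⟨l, rfl⟩ := Ideal.Quotient.mk_surjective y
    obtain ⟨r, rfl⟩ := Ideal.Quotient.mk_surjective l
    exact ⟨r, key r⟩
  rw [Module.length_eq_one_iff, isSimpleModule_iff_toSpanSingleton_surjective]
  refine ⟨Ideal.Quotient.nontrivial_iff.2 hb, ?_⟩
  intro y hy z
  obtain ⟨r, rfl⟩ := hsurj1 y
  obtain ⟨r', rfl⟩ := hsurj1 z
  have hr : IsUnit r := by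
    by_contra hnu
    apply hy
    rw [key r, Ideal.Quotient.eq_zero_iff_mem]
    exact ha r ((IsLocalRing.mem_maximalIdeal r).2 hnu)
  obtain ⟨u, rfl⟩ := hr
  refine ⟨r' * ((u⁻¹ : Rˣ) : R), ?_⟩
  rw [LinearMap.toSpanSingleton_apply, smul_smul, mul_assoc, Units.inv_mul, mul_one]

end Alg

section Local

variable {X Y : Scheme.{u}}

/-- compatibility of `Cyc.specMap` with a morphism. -/
theorem specMap_comp_residueFieldMap (f : X ⟶ Y) (c η : X) (hη : η ⤳ c) (h : f η ⤳ f c)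
    (r : Y.presheaf.stalk (f c)) :
    (f.residueFieldMap η).hom (Cyc.specMap (f c) (f η) h r) =
      Cyc.specMap c η hη ((f.stalkMap c).hom r) := by
  have h1 : Y.presheaf.stalkSpecializes h ≫ Y.residue (f η) ≫ f.residueFieldMap η =
      f.stalkMap c ≫ X.presheaf.stalkSpecializes hη ≫ X.residue η := by
    rw [Scheme.residue_residueFieldMap, ← Category.assoc, ← Category.assoc]
    congr 1
    exact Scheme.Hom.stalkSpecializes_stalkMap f η c hη
  have h2 := congr(($h1).hom r)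
  simpa [Cyc.specMap] using h2

theorem ker_stalkMap_le_ker_specMap (f : X ⟶ Y) (c η : X) (hη : η ⤳ c) (h : f η ⤳ f c) :
    RingHom.ker (f.stalkMap c).hom ≤ RingHom.ker (Cyc.specMap (f c) (f η) h) := by
  intro r hr
  rw [RingHom.mem_ker] at hr ⊢
  have h1 := specMap_comp_residueFieldMap f c η hη h r
  rw [hr, map_zero] at h1
  exact (map_eq_zero_iff _ (RingHom.injective _)).1 h1

theorem exists_mem_of_section {P C : Scheme.{u}} (s : C ⟶ P) (g : P ⟶ C) (hsg : s ≫ g = 𝟙 C)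
    (c : C) (r : P.presheaf.stalk (s c))
    (hr : r ∈ IsLocalRing.maximalIdeal (P.presheaf.stalk (s c))) :
    ∃ b : C.presheaf.stalk (g (s c)), b ∈ IsLocalRing.maximalIdeal (C.presheaf.stalk (g (s c))) ∧
      (s.stalkMap c).hom ((g.stalkMap (s c)).hom b) = (s.stalkMap c).hom r := by
  haveI : IsIso (s ≫ g) := by rw [hsg]; infer_instance
  have hcomp : (s ≫ g).stalkMap c = g.stalkMap (s c) ≫ s.stalkMap c :=
    Scheme.Hom.stalkMap_comp s g c
  haveI : IsIso ((s ≫ g).stalkMap c) := inferInstance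
  have hbij : Function.Bijective ((s ≫ g).stalkMap c).hom :=
    ConcreteCategory.bijective_of_isIso _
  obtain ⟨b, hb⟩ := hbij.2 ((s.stalkMap c).hom r)
  refine ⟨b, ?_, ?_⟩
  · rw [IsLocalRing.mem_maximalIdeal, mem_nonunits_iff] at hr ⊢
    intro hbu
    apply hr
    have h1 : IsUnit ((s.stalkMap c).hom r) := by rw [← hb]; exact hbu.map _
    exact (isUnit_map_iff (s.stalkMap c).hom r).1 h1
  · rw [← hb, hcomp]; rfl

/-- the fibre multiplicity along a section is `1`. -/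
theorem fibreMult_section {P C : Scheme.{u}} (s : C ⟶ P) (g : P ⟶ C) (hsg : s ≫ g = 𝟙 C)
    (c η : C) (hη : η ⤳ c) (h : s η ⤳ s c) : AlgEqCyc.fibreMult g (s c) (s η) h = 1 := by
  unfold AlgEqCyc.fibreMult
  have hne : RingHom.ker (Cyc.specMap (s c) (s η) h) ≠ ⊤ := RingHom.ker_ne_top _
  have hmax : ∀ r ∈ IsLocalRing.maximalIdeal (P.presheaf.stalk (s c)),
      ∃ b ∈ IsLocalRing.maximalIdeal (C.presheaf.stalk (g (s c))),
        r - (g.stalkMap (s c)).hom b ∈ RingHom.ker (Cyc.specMap (s c) (s η) h) := by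
    intro r hr
    obtain ⟨b, hb, hbr⟩ := exists_mem_of_section s g hsg c r hr
    refine ⟨b, hb, ker_stalkMap_le_ker_specMap s c η hη h ?_⟩
    rw [RingHom.mem_ker, map_sub, hbr, sub_self]
  rw [length_quot_eq_one (g.stalkMap (s c)).hom _ hne hmax]
  rfl

theorem fibreMult_section' {P C : Scheme.{u}} (s : C ⟶ P) (g : P ⟶ C) (hsg : s ≫ g = 𝟙 C)
    (c η : C) (hη : η ⤳ c) (v : P) (hv : v = s c) (h : s η ⤳ v) :
    AlgEqCyc.fibreMult g v (s η) h = 1 := by
  subst hv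
  exact fibreMult_section s g hsg c η hη h

end Local

end Groth.Agent.H3.AlgEq
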