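import Groth.Agent.Lib.Helper3.AlgEq.Main

/-! # The graph family of a curve in `X`: `[ι t₁] - [ι t₂]` is elementary algebraically trivial -/

set_option autoImplicit false
universe u
open AlgebraicGeometry CategoryTheory CategoryTheory.Limits

namespace Groth.Agent.H3.AlgEq

variable {k : Type u} [Field k] {X C : Scheme.{u}} (p : X ⟶ Spec (CommRingCat.of k))
  (q : C ⟶ Spec (CommRingCat.of k)) (ι : C ⟶ X) (hq : ι ≫ p = q)

/-- the graph of `ι`. -/
noncomputable def graph : C ⟶ pullback p q :=
  pullback.lift ι (𝟙 C) (by rw [hq, Category.id_comp])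

theorem graph_fst : graph p q ι hq ≫ pullback.fst p q = ι := pullback.lift_fst _ _ _

theorem graph_snd : graph p q ι hq ≫ pullback.snd p q = 𝟙 C := pullback.lift_snd _ _ _

theorem isClosedImmersion_graph [IsClosedImmersion ι] [IsSeparated q] :
    IsClosedImmersion (graph p q ι hq) := by
  haveI : IsClosedImmersion (graph p q ι hq ≫ pullback.fst p q) := by
    rw [graph_fst]; infer_instance
  exact IsClosedImmersion.of_comp (graph p q ι hq) (pullback.fst p q)

open Classical in
/-- the graph cycle -/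
noncomputable def graphCycle [IsIntegral C] : AlgebraicCycle (pullback p q) ℤ :=
  Function.locallyFinsuppWithin.single (graph p q ι hq (genericPoint C)) (1 : ℤ)

theorem graphCycle_ne_zero_iff [IsIntegral C] (w : ↥(pullback p q)) :
    graphCycle p q ι hq w ≠ 0 ↔ w = graph p q ι hq (genericPoint C) := by
  classical
  unfold graphCycle
  rw [Function.locallyFinsuppWithin.single_apply]
  split_ifs with h <;> simp [h]

theorem graphCycle_self [IsIntegral C] :
    graphCycle p q ι hq (graph p q ι hq (genericPoint C)) = 1 := by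
  classical
  unfold graphCycle
  rw [Function.locallyFinsuppWithin.single_apply, if_pos rfl]

theorem fst_graph (c : C) : pullback.fst p q (graph p q ι hq c) = ι c := by
  have h := congrArg (fun f : C ⟶ X => f c) (graph_fst p q ι hq)
  exact h

theorem snd_graph (c : C) : pullback.snd p q (graph p q ι hq c) = c := by
  have h := congrArg (fun f : C ⟶ C => f c) (graph_snd p q ι hq)
  exact h

theorem fst_sliceX (t : Spec (CommRingCat.of k) ⟶ C) (ht : t ≫ q = 𝟙 _) (x : X) :
    pullback.fst p q (AlgEqCyc.slice p q t ht x) = x := by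
  have h1 : AlgEqCyc.slice p q t ht ≫ pullback.fst p q = 𝟙 X := pullback.lift_fst _ _ _
  have h := congrArg (fun f : X ⟶ X => f x) h1
  exact h

theorem snd_sliceX (t : Spec (CommRingCat.of k) ⟶ C) (ht : t ≫ q = 𝟙 _) (x : X) :
    pullback.snd p q (AlgEqCyc.slice p q t ht x) = t (IsLocalRing.closedPoint k) := by
  have h1 : AlgEqCyc.slice p q t ht ≫ pullback.snd p q = p ≫ t := pullback.lift_snd _ _ _
  have h := congrArg (fun f : X ⟶ C => f x) h1
  have h3 : p x = IsLocalRing.closedPoint k := by
    haveI : Subsingleton (PrimeSpectrum k) := inferInstance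
    exact Subsingleton.elim (α := PrimeSpectrum k) _ _
  calc pullback.snd p q (AlgEqCyc.slice p q t ht x) = (p ≫ t) x := h
    _ = t (p x) := rfl
    _ = t (IsLocalRing.closedPoint k) := by rw [h3]

theorem sliceX_apply_eq_graph (t : Spec (CommRingCat.of k) ⟶ C) (ht : t ≫ q = 𝟙 _) :
    AlgEqCyc.slice p q t ht (ι (t (IsLocalRing.closedPoint k))) =
      graph p q ι hq (t (IsLocalRing.closedPoint k)) := by
  have h1 : (t ≫ ι) ≫ AlgEqCyc.slice p q t ht = t ≫ graph p q ι hq := by
    have e1 : AlgEqCyc.slice p q t ht ≫ pullback.fst p q = 𝟙 X := pullback.lift_fst _ _ _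
    have e2 : AlgEqCyc.slice p q t ht ≫ pullback.snd p q = p ≫ t := pullback.lift_snd _ _ _
    apply pullback.hom_ext
    · simp only [Category.assoc]
      rw [e1, graph_fst, Category.comp_id]
    · simp only [Category.assoc]
      rw [e2, graph_snd, Category.comp_id, ← Category.assoc ι p t, hq, ← Category.assoc t q t, ht,
        Category.id_comp]
  have h := congrArg (fun f : Spec (CommRingCat.of k) ⟶ pullback p q =>
    f (IsLocalRing.closedPoint k)) h1
  exact h

theorem eq_of_specializes_graph [IsIntegral C] [IsSeparated q] [IsClosedImmersion ι]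
    (t : Spec (CommRingCat.of k) ⟶ C)
    (ht : t ≫ q = 𝟙 _) (x : X)
    (h : graph p q ι hq (genericPoint C) ⤳ AlgEqCyc.slice p q t ht x) :
    x = ι (t (IsLocalRing.closedPoint k)) := by
  haveI := isClosedImmersion_graph p q ι hq
  have hcl : IsClosed (Set.range (graph p q ι hq)) :=
    (graph p q ι hq).isClosedEmbedding.isClosed_range
  have hmem : AlgEqCyc.slice p q t ht x ∈ Set.range (graph p q ι hq) :=
    h.mem_closed hcl ⟨_, rfl⟩
  obtain ⟨c, hc⟩ := hmem
  have h1 : ι c = x := by
    have h := congrArg (pullback.fst p q) hc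
    rw [fst_graph, fst_sliceX] at h
    exact h
  have h2 : c = t (IsLocalRing.closedPoint k) := by
    have h := congrArg (pullback.snd p q) hc
    rw [snd_graph, snd_sliceX] at h
    exact h
  rw [← h1, h2]

theorem fibreFun_graph_self [IsIntegral C] (t : Spec (CommRingCat.of k) ⟶ C)
    (ht : t ≫ q = 𝟙 _) :
    AlgEqCyc.fibreFun p q (graphCycle p q ι hq) t ht (ι (t (IsLocalRing.closedPoint k))) = 1 := by
  unfold AlgEqCyc.fibreFun
  have hsp : graph p q ι hq (genericPoint C) ⤳
      AlgEqCyc.slice p q t ht (ι (t (IsLocalRing.closedPoint k))) := by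
    rw [sliceX_apply_eq_graph p q ι hq]
    exact (genericPoint_specializes (t (IsLocalRing.closedPoint k))).map
      (graph p q ι hq).continuous
  rw [finsum_eq_single _ (⟨graph p q ι hq (genericPoint C),
    (graphCycle_ne_zero_iff p q ι hq _).2 rfl, hsp⟩ :
      {w : ↥(pullback p q) // graphCycle p q ι hq w ≠ 0 ∧
      w ⤳ AlgEqCyc.slice p q t ht (ι (t (IsLocalRing.closedPoint k)))})]
  · show graphCycle p q ι hq (graph p q ι hq (genericPoint C)) *
      ((AlgEqCyc.fibreMult (pullback.snd p q) _ (graph p q ι hq (genericPoint C)) hsp : ℕ) : ℤ)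
        = 1
    rw [graphCycle_self, fibreMult_section' (graph p q ι hq) (pullback.snd p q)
      (graph_snd p q ι hq) (t (IsLocalRing.closedPoint k)) (genericPoint C)
      (genericPoint_specializes _) _ (sliceX_apply_eq_graph p q ι hq t ht) hsp]
    simp
  · intro w hw
    exfalso
    apply hw
    exact Subtype.ext ((graphCycle_ne_zero_iff p q ι hq _).1 w.2.1)

theorem fibreFun_graph_ne [IsIntegral C] [IsSeparated q] [IsClosedImmersion ι]
    (t : Spec (CommRingCat.of k) ⟶ C)
    (ht : t ≫ q = 𝟙 _) (x : X) (hx : x ≠ ι (t (IsLocalRing.closedPoint k))) :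
    AlgEqCyc.fibreFun p q (graphCycle p q ι hq) t ht x = 0 := by
  unfold AlgEqCyc.fibreFun
  haveI : IsEmpty {w : ↥(pullback p q) // graphCycle p q ι hq w ≠ 0 ∧
      w ⤳ AlgEqCyc.slice p q t ht x} := by
    refine ⟨fun w => hx (eq_of_specializes_graph p q ι hq t ht x ?_)⟩
    rw [← (graphCycle_ne_zero_iff p q ι hq _).1 w.2.1]
    exact w.2.2
  exact finsum_of_isEmpty _

include hq in
theorem isElemAlgTriv_graph [DecidableEq ↥X] [IsClosedImmersion ι] (hs : Smooth q)
    (hp : Neron.IsProjectiveOver k (Over.mk q)) (hi : IsIntegral C)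
    (hd : topologicalKrullDim ↥C = 1)
    (t₁ t₂ : Spec (CommRingCat.of k) ⟶ C) (h₁ : t₁ ≫ q = 𝟙 _) (h₂ : t₂ ≫ q = 𝟙 _) :
    AlgEqCyc.IsElemAlgTriv p
      (Function.locallyFinsuppWithin.single (ι (t₁ (IsLocalRing.closedPoint k))) (1 : ℤ) -
        Function.locallyFinsuppWithin.single (ι (t₂ (IsLocalRing.closedPoint k))) (1 : ℤ)) := by
  haveI : IsSeparated q := isSeparated_of_isProjectiveOver q hp
  refine ⟨C, q, hs, hp, hi, hd, graphCycle p q ι hq, ?_, t₁, t₂, h₁, h₂, ?_⟩
  · intro w hw
    rw [(graphCycle_ne_zero_iff p q ι hq w).1 hw, snd_graph]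
    exact genericPoint_closure C
  · intro x
    rw [Function.locallyFinsuppWithin.coe_sub, Pi.sub_apply,
      Function.locallyFinsuppWithin.single_apply, Function.locallyFinsuppWithin.single_apply]
    by_cases hx1 : x = ι (t₁ (IsLocalRing.closedPoint k))
    · by_cases hx2 : x = ι (t₂ (IsLocalRing.closedPoint k))
      · rw [if_pos hx1, if_pos hx2]
        have e1 := fibreFun_graph_self p q ι hq t₁ h₁
        have e2 := fibreFun_graph_self p q ι hq t₂ h₂
        rw [← hx1] at e1
        rw [← hx2] at e2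
        rw [e1, e2]
      · rw [if_pos hx1, if_neg hx2, fibreFun_graph_ne p q ι hq t₂ h₂ x hx2]
        have e1 := fibreFun_graph_self p q ι hq t₁ h₁
        rw [← hx1] at e1
        rw [e1]
    · by_cases hx2 : x = ι (t₂ (IsLocalRing.closedPoint k))
      · rw [if_neg hx1, if_pos hx2, fibreFun_graph_ne p q ι hq t₁ h₁ x hx1]
        have e2 := fibreFun_graph_self p q ι hq t₂ h₂
        rw [← hx2] at e2
        rw [e2]
      · rw [if_neg hx1, if_neg hx2, fibreFun_graph_ne p q ι hq t₁ h₁ x hx1,
          fibreFun_graph_ne p q ι hq t₂ h₂ x hx2]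

/-- a `k`-point of `X` lying on the closed subscheme `C` lifts to `C`. -/
theorem exists_lift_point [IsClosedImmersion ι] (P : Spec (CommRingCat.of k) ⟶ X)
    (hP : P (IsLocalRing.closedPoint k) ∈ Set.range ⇑ι) :
    ∃ t : Spec (CommRingCat.of k) ⟶ C, t ≫ ι = P := by
  obtain ⟨c, hc⟩ := hP
  obtain ⟨z, hz1, hz2⟩ := Scheme.Pullback.exists_preimage_pullback (f := ι) (g := P) c
    (IsLocalRing.closedPoint k) hc
  haveI : IsClosedImmersion (pullback.snd ι P) := inferInstance
  haveI : Surjective (pullback.snd ι P) := by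
    refine ⟨fun y => ⟨z, ?_⟩⟩
    haveI : Subsingleton (PrimeSpectrum k) := inferInstance
    exact Subsingleton.elim (α := PrimeSpectrum k) _ _
  haveI : IsReduced (Spec (CommRingCat.of k)) := inferInstance
  haveI : IsIso (pullback.snd ι P) := isIso_of_isClosedImmersion_of_surjective _
  refine ⟨inv (pullback.snd ι P) ≫ pullback.fst ι P, ?_⟩
  rw [Category.assoc, pullback.condition, ← Category.assoc, IsIso.inv_hom_id, Category.id_comp]

end Groth.Agent.H3.AlgEq
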