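import Groth.Agent.Lib.Helper3.AlgEq.Diag

/-! # The diagonal family on a curve: `[P₁] - [P₂]` is elementary algebraically trivial -/

set_option autoImplicit false
universe u
open AlgebraicGeometry CategoryTheory CategoryTheory.Limits

namespace Groth.Agent.H3.AlgEq

variable {k : Type u} [Field k] {C : Scheme.{u}} (q : C ⟶ Spec (CommRingCat.of k))

open Classical in
/-- the diagonal cycle -/
noncomputable def diagCycle [IsIntegral C] : AlgebraicCycle (pullback q q) ℤ :=
  Function.locallyFinsuppWithin.single (pullback.diagonal q (genericPoint C)) (1 : ℤ)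

theorem diagCycle_ne_zero_iff [IsIntegral C] (w : ↥(pullback q q)) :
    diagCycle q w ≠ 0 ↔ w = pullback.diagonal q (genericPoint C) := by
  classical
  unfold diagCycle
  rw [Function.locallyFinsuppWithin.single_apply]
  split_ifs with h <;> simp [h]

theorem diagCycle_self [IsIntegral C] :
    diagCycle q (pullback.diagonal q (genericPoint C)) = 1 := by
  classical
  unfold diagCycle
  rw [Function.locallyFinsuppWithin.single_apply, if_pos rfl]

theorem fst_diagonal (c : C) : pullback.fst q q (pullback.diagonal q c) = c := by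
  have h := congrArg (fun f : C ⟶ C => f c) (pullback.diagonal_fst q)
  exact h

theorem snd_diagonal (c : C) : pullback.snd q q (pullback.diagonal q c) = c := by
  have h := congrArg (fun f : C ⟶ C => f c) (pullback.diagonal_snd q)
  exact h

theorem fst_slice (t : Spec (CommRingCat.of k) ⟶ C) (ht : t ≫ q = 𝟙 _) (x : C) :
    pullback.fst q q (AlgEqCyc.slice q q t ht x) = x := by
  have h1 : AlgEqCyc.slice q q t ht ≫ pullback.fst q q = 𝟙 C := pullback.lift_fst _ _ _
  have h := congrArg (fun f : C ⟶ C => f x) h1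
  exact h

theorem snd_slice (t : Spec (CommRingCat.of k) ⟶ C) (ht : t ≫ q = 𝟙 _) (x : C) :
    pullback.snd q q (AlgEqCyc.slice q q t ht x) = t (IsLocalRing.closedPoint k) := by
  have h1 : AlgEqCyc.slice q q t ht ≫ pullback.snd q q = q ≫ t := pullback.lift_snd _ _ _
  have h := congrArg (fun f : C ⟶ C => f x) h1
  have h3 : q x = IsLocalRing.closedPoint k := by
    haveI : Subsingleton (PrimeSpectrum k) := inferInstance
    exact Subsingleton.elim (α := PrimeSpectrum k) _ _
  calc pullback.snd q q (AlgEqCyc.slice q q t ht x) = (q ≫ t) x := h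
    _ = t (q x) := rfl
    _ = t (IsLocalRing.closedPoint k) := by rw [h3]

theorem slice_apply_eq_diagonal (t : Spec (CommRingCat.of k) ⟶ C) (ht : t ≫ q = 𝟙 _) :
    AlgEqCyc.slice q q t ht (t (IsLocalRing.closedPoint k)) =
      pullback.diagonal q (t (IsLocalRing.closedPoint k)) := by
  have h1 : t ≫ AlgEqCyc.slice q q t ht = t ≫ pullback.diagonal q := by
    have e1 : AlgEqCyc.slice q q t ht ≫ pullback.fst q q = 𝟙 C := pullback.lift_fst _ _ _
    have e2 : AlgEqCyc.slice q q t ht ≫ pullback.snd q q = q ≫ t := pullback.lift_snd _ _ _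
    apply pullback.hom_ext
    · rw [Category.assoc, e1, Category.assoc, pullback.diagonal_fst]
    · rw [Category.assoc, e2, Category.assoc, pullback.diagonal_snd, ← Category.assoc, ht,
        Category.id_comp, Category.comp_id]
  have h := congrArg (fun f : Spec (CommRingCat.of k) ⟶ pullback q q =>
    f (IsLocalRing.closedPoint k)) h1
  exact h

theorem eq_of_specializes [IsIntegral C] [IsSeparated q] (t : Spec (CommRingCat.of k) ⟶ C)
    (ht : t ≫ q = 𝟙 _) (x : C)
    (h : pullback.diagonal q (genericPoint C) ⤳ AlgEqCyc.slice q q t ht x) :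
    x = t (IsLocalRing.closedPoint k) := by
  have hcl : IsClosed (Set.range (pullback.diagonal q)) :=
    (pullback.diagonal q).isClosedEmbedding.isClosed_range
  have hmem : AlgEqCyc.slice q q t ht x ∈ Set.range (pullback.diagonal q) :=
    h.mem_closed hcl ⟨_, rfl⟩
  obtain ⟨c, hc⟩ := hmem
  have h1 : c = x := by
    have h := congrArg (pullback.fst q q) hc
    rw [fst_diagonal, fst_slice] at h
    exact h
  have h2 : c = t (IsLocalRing.closedPoint k) := by
    have h := congrArg (pullback.snd q q) hc
    rw [snd_diagonal, snd_slice] at h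
    exact h
  rw [← h1, h2]

theorem fibreFun_diag_self [IsIntegral C] [IsSeparated q] (t : Spec (CommRingCat.of k) ⟶ C)
    (ht : t ≫ q = 𝟙 _) :
    AlgEqCyc.fibreFun q q (diagCycle q) t ht (t (IsLocalRing.closedPoint k)) = 1 := by
  unfold AlgEqCyc.fibreFun
  have hsp : pullback.diagonal q (genericPoint C) ⤳
      AlgEqCyc.slice q q t ht (t (IsLocalRing.closedPoint k)) := by
    rw [slice_apply_eq_diagonal]
    exact (genericPoint_specializes (t (IsLocalRing.closedPoint k))).map
      (pullback.diagonal q).continuous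
  rw [finsum_eq_single _ (⟨pullback.diagonal q (genericPoint C),
    (diagCycle_ne_zero_iff q _).2 rfl, hsp⟩ : {w : ↥(pullback q q) // diagCycle q w ≠ 0 ∧
      w ⤳ AlgEqCyc.slice q q t ht (t (IsLocalRing.closedPoint k))})]
  · show diagCycle q (pullback.diagonal q (genericPoint C)) *
      ((AlgEqCyc.fibreMult (pullback.snd q q) _ (pullback.diagonal q (genericPoint C)) hsp : ℕ) : ℤ)
        = 1
    rw [diagCycle_self, fibreMult_section' (pullback.diagonal q) (pullback.snd q q)
      (pullback.diagonal_snd q) (t (IsLocalRing.closedPoint k)) (genericPoint C)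
      (genericPoint_specializes _) _ (slice_apply_eq_diagonal q t ht) hsp]
    simp
  · intro w hw
    exfalso
    apply hw
    exact Subtype.ext ((diagCycle_ne_zero_iff q _).1 w.2.1)

theorem fibreFun_diag_ne [IsIntegral C] [IsSeparated q] (t : Spec (CommRingCat.of k) ⟶ C)
    (ht : t ≫ q = 𝟙 _) (x : C) (hx : x ≠ t (IsLocalRing.closedPoint k)) :
    AlgEqCyc.fibreFun q q (diagCycle q) t ht x = 0 := by
  unfold AlgEqCyc.fibreFun
  haveI : IsEmpty {w : ↥(pullback q q) // diagCycle q w ≠ 0 ∧
      w ⤳ AlgEqCyc.slice q q t ht x} := by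
    refine ⟨fun w => hx (eq_of_specializes q t ht x ?_)⟩
    rw [← (diagCycle_ne_zero_iff q _).1 w.2.1]
    exact w.2.2
  exact finsum_of_isEmpty _

theorem isSeparated_of_isProjectiveOver (hp : Neron.IsProjectiveOver k (Over.mk q)) :
    IsSeparated q := by
  obtain ⟨n, i, hi', hiq⟩ := hp
  haveI := hi'
  haveI := H5.AG.isProper_toBase n (Spec (CommRingCat.of k))
  have h : q = i ≫ CohB1.ProjSpaceOver.toBase n (Spec (CommRingCat.of k)) := hiq.symm
  rw [h]
  infer_instance

theorem isElemAlgTriv_diag [DecidableEq ↥C] (hs : Smooth q)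
    (hp : Neron.IsProjectiveOver k (Over.mk q)) (hi : IsIntegral C)
    (hd : topologicalKrullDim ↥C = 1)
    (P₁ P₂ : Spec (CommRingCat.of k) ⟶ C) (h₁ : P₁ ≫ q = 𝟙 _) (h₂ : P₂ ≫ q = 𝟙 _) :
    AlgEqCyc.IsElemAlgTriv q
      (Function.locallyFinsuppWithin.single (P₁ (IsLocalRing.closedPoint k)) (1 : ℤ) -
        Function.locallyFinsuppWithin.single (P₂ (IsLocalRing.closedPoint k)) (1 : ℤ)) := by
  haveI : IsSeparated q := isSeparated_of_isProjectiveOver q hp
  refine ⟨C, q, hs, hp, hi, hd, diagCycle q, ?_, P₁, P₂, h₁, h₂, ?_⟩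
  · intro w hw
    rw [(diagCycle_ne_zero_iff q w).1 hw, snd_diagonal]
    exact genericPoint_closure C
  · intro x
    rw [Function.locallyFinsuppWithin.coe_sub, Pi.sub_apply,
      Function.locallyFinsuppWithin.single_apply, Function.locallyFinsuppWithin.single_apply]
    by_cases hx1 : x = P₁ (IsLocalRing.closedPoint k)
    · by_cases hx2 : x = P₂ (IsLocalRing.closedPoint k)
      · rw [if_pos hx1, if_pos hx2]
        have e1 := fibreFun_diag_self q P₁ h₁
        have e2 := fibreFun_diag_self q P₂ h₂
        rw [← hx1] at e1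
        rw [← hx2] at e2
        rw [e1, e2]
      · rw [if_pos hx1, if_neg hx2, fibreFun_diag_ne q P₂ h₂ x hx2]
        have e1 := fibreFun_diag_self q P₁ h₁
        rw [← hx1] at e1
        rw [e1]
    · by_cases hx2 : x = P₂ (IsLocalRing.closedPoint k)
      · rw [if_neg hx1, if_pos hx2, fibreFun_diag_ne q P₁ h₁ x hx1]
        have e2 := fibreFun_diag_self q P₂ h₂
        rw [← hx2] at e2
        rw [e2]
      · rw [if_neg hx1, if_neg hx2, fibreFun_diag_ne q P₁ h₁ x hx1,
          fibreFun_diag_ne q P₂ h₂ x hx2]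

end Groth.Agent.H3.AlgEq
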